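import Groth.Agent.KFlat.Derived
import Groth.Agent.KFlat.Ring
import Groth.Agent.PCohLib.Basic
import Groth.Prelude.Def_DDual2
import Mathlib.Algebra.Homology.HomotopyCategory.KProjective
import Mathlib.Algebra.Homology.DerivedCategory.KProjective

/-!
The value of derived base change `DRing.LBaseChange φ` at K-flat complexes and at bounded above complexes of
projectives.
-/

set_option autoImplicit false
set_option linter.style.haveILetI false

universe u

open CategoryTheory CategoryTheory.Limits MonoidalCategory HomologicalComplex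
open CochainComplex (mappingCone)

attribute [local instance] HasDerivedCategory.standard

namespace Groth.Agent.LBC

variable {A B : Type u} [CommRing A] [CommRing B] (φ : A →+* B)

/-- Extension of scalars on complexes. -/
noncomputable abbrev ext : DRing.Cx A ⥤ DRing.Cx B :=
  (ModuleCat.extendScalars.{u, u, u} φ).mapHomologicalComplex (ComplexShape.up ℤ)

/-- `B` as an `A`-module. -/
noncomputable abbrev Bmod : ModuleCat.{u} A := (ModuleCat.restrictScalars φ).obj (ModuleCat.of B B)

/-- `(B ⊗ -)` followed by restriction of scalars is `- ⊗ B`. -/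
noncomputable def extRestrictIso :
    ModuleCat.extendScalars.{u, u, u} φ ⋙ ModuleCat.restrictScalars φ ≅
      (curriedTensor (ModuleCat.{u} A)).flip.obj (Bmod φ) :=
  NatIso.ofComponents (fun M => LinearEquiv.toModuleIso
    (show ((ModuleCat.restrictScalars φ).obj ((ModuleCat.extendScalars.{u, u, u} φ).obj M) :
        ModuleCat.{u} A) ≃ₗ[A] TensorProduct A M (Bmod φ) from
    { (TensorProduct.comm A (Bmod φ) M).toAddEquiv with
      map_smul' := fun a x => TensorProduct.induction_on
        (motive := fun x : TensorProduct A (Bmod φ) M =>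
          (TensorProduct.comm A (Bmod φ) M).toAddEquiv
            (show TensorProduct A (Bmod φ) M from
              a • (show (ModuleCat.restrictScalars φ).obj ((ModuleCat.extendScalars.{u, u, u} φ).obj M)
                from x)) = a • (TensorProduct.comm A (Bmod φ) M).toAddEquiv x) x
        ((congrArg (TensorProduct.comm A (Bmod φ) M).toAddEquiv (smul_zero a)).trans
          ((map_zero _).trans ((congrArg (a • ·) (map_zero _)).trans (smul_zero a)).symm))
        (fun b m => by
          change (m : M) ⊗ₜ[A] (a • b : Bmod φ) = a • (m ⊗ₜ[A] b)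
          exact TensorProduct.tmul_smul a m b)
        (fun x y hx hy => ((congrArg (TensorProduct.comm A (Bmod φ) M).toAddEquiv
          (smul_add a _ _)).trans (map_add _ _ _)).trans ((congrArg₂ (· + ·) hx hy).trans
            ((smul_add a _ _).symm.trans (congrArg (a • ·) (map_add _ _ _).symm)))) }))
    (fun {M N} f => ModuleCat.hom_ext (LinearMap.ext fun x =>
      TensorProduct.induction_on x ((map_zero _).trans (map_zero _).symm) (fun b m => rfl)
        (fun x y hx hy =>
          ((map_add _ x y).trans (congrArg₂ (· + ·) hx hy)).trans (map_add _ x y).symm)))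

lemma acyclic_iff {A : Type u} [CommRing A] {P Q : DRing.Cx A} (f : P ⟶ Q) :
    (mappingCone f).Acyclic ↔ QuasiIso f :=
  ⟨fun h => PCohLib.quasiIso_of_NQ f fun n => (PCohLib.NQ_iff_exactFrom n f).2 fun i _ => h i,
    fun h i => (PCohLib.NQ_iff_exactFrom i f).1 (PCohLib.NQ.of_quasiIso i f) i le_rfl⟩

lemma acyclic_ext_of_kFlat {C : DRing.Cx A} (hC : DRing.IsKFlat A C) (hac : C.Acyclic) :
    ((ext φ).obj C).Acyclic := by
  let L : DRing.Cx A := (single (ModuleCat.{u} A) (ComplexShape.up ℤ) 0).obj (Bmod φ)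
  obtain ⟨Z, hZ0⟩ := HasZeroObject.zero (C := DRing.Cx A)
  have hZ : DRing.IsKFlat A Z := KFlat.FlatR.of_isZero _ hZ0
  haveI : QuasiIso (0 : Z ⟶ C) := ⟨fun i => by
    rw [quasiIsoAt_iff_exactAt]
    · exact hac i
    · exact (exactAt_iff_isZero_homology _ _).2 ((homologyFunctor _ _ i).map_isZero hZ0)⟩
  have h0 := KFlat.quasiIso_whiskerLeft_of_kFlat hZ hC (0 : Z ⟶ C) inferInstance L
  have h2 : ∀ i, IsZero ((L ⊗ Z).homology i) :=
    hZ0 |> fun hz i => (homologyFunctor _ _ i).map_isZero
      ((KFlat.tensR (curriedTensor (ModuleCat.{u} A)) L).map_isZero hz)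
  have h1 : ∀ i, IsZero ((L ⊗ C).homology i) := fun i => by
    haveI : IsIso (homologyMap (L ◁ (0 : Z ⟶ C)) i) := inferInstance
    exact (h2 i).of_iso (asIso (homologyMap (L ◁ (0 : Z ⟶ C)) i)).symm
  intro i
  have h3 : IsZero ((C ⊗ L).homology i) :=
    (h1 i).of_iso ((homologyFunctor _ _ i).mapIso (DTen.braidCx C L))
  have h4 : ((((curriedTensor (ModuleCat.{u} A)).flip.obj (Bmod φ)).mapHomologicalComplex
      (ComplexShape.up ℤ)).obj C).ExactAt i :=
    (exactAt_iff_isZero_homology _ _).2
      (h3.of_iso ((homologyFunctor _ _ i).mapIso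
        (KFlat.singleIso (curriedTensor (ModuleCat.{u} A)) C (Bmod φ))))
  have h5 : (((ModuleCat.restrictScalars φ).mapHomologicalComplex (ComplexShape.up ℤ)).obj
      ((ext φ).obj C)).ExactAt i :=
    h4.of_iso ((Functor.mapHomologicalComplexCompIso (extRestrictIso φ)
      (ComplexShape.up ℤ)).app C).symm
  rw [exactAt_iff] at h5 ⊢
  exact (ShortComplex.exact_map_iff_of_faithful _ (ModuleCat.restrictScalars φ)).1 h5

lemma quasiIso_ext_of_kFlat {P Q : DRing.Cx A} (hP : DRing.IsKFlat A P) (hQ : DRing.IsKFlat A Q)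
    (f : P ⟶ Q) (hf : QuasiIso f) : QuasiIso ((ext φ).map f) := by
  have hC : DRing.IsKFlat A (mappingCone f) := KFlat.FlatR.mappingCone _ f hP hQ
  have hac : (mappingCone f).Acyclic := (acyclic_iff f).2 hf
  rw [← acyclic_iff]
  exact fun i => (acyclic_ext_of_kFlat φ hC hac i).of_iso
    (CochainComplex.mappingCone.mapHomologicalComplexIso f (ModuleCat.extendScalars.{u, u, u} φ))

/-- The localization functor on complexes, through the homotopy category. -/
noncomputable abbrev L₀ : DRing.Cx A ⥤ Dual.D A :=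
  HomotopyCategory.quotient (ModuleCat.{u} A) (ComplexShape.up ℤ) ⋙ DerivedCategory.Qh

instance : (L₀ (A := A)).IsLocalization (DTen.qis A) :=
  Functor.IsLocalization.of_iso _ (DerivedCategory.quotientCompQhIso (ModuleCat.{u} A)).symm

/-- Base change on complexes, in `D(B)`. -/
noncomputable abbrev Φ : DRing.Cx A ⥤ Dual.D B :=
  HomotopyCategory.quotient (ModuleCat.{u} A) (ComplexShape.up ℤ) ⋙ DRing.baseChangeKh φ

/-- `Φ` is extension of scalars followed by localization. -/
noncomputable def ΦIso : Φ φ ≅ ext φ ⋙ DerivedCategory.Q :=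
  (Functor.associator _ _ _).symm ≪≫
    Functor.isoWhiskerRight ((ModuleCat.extendScalars.{u, u, u} φ).mapHomotopyCategoryFactors
      (ComplexShape.up ℤ)) DerivedCategory.Qh ≪≫
    Functor.associator _ _ _ ≪≫
      Functor.isoWhiskerLeft (ext φ) (DerivedCategory.quotientCompQhIso (ModuleCat.{u} B))

lemma res_inverts : (KFlat.res A).Inverts (Φ φ) := fun X Y f hX hY hf => by
  haveI : IsIso ((ext φ ⋙ DerivedCategory.Q).map f) := KFlat.isIso_Q_map _
    (quasiIso_ext_of_kFlat φ hX hY f ((mem_quasiIso_iff _).1 hf))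
  exact (NatIso.isIso_map_iff (ΦIso φ) f).2 inferInstance

/-- A right Kan extension along `Qh` gives one along `quotient ⋙ Qh`. -/
lemma isLeftDerived_quotient (LF : Dual.D A ⥤ Dual.D B)
    (α : DerivedCategory.Qh ⋙ LF ⟶ DRing.baseChangeKh φ)
    [hLF : LF.IsLeftDerivedFunctor α (HomotopyCategory.quasiIso (ModuleCat.{u} A) (ComplexShape.up ℤ))] :
    LF.IsLeftDerivedFunctor (show L₀ ⋙ LF ⟶ Φ φ from Functor.whiskerLeft
      (HomotopyCategory.quotient (ModuleCat.{u} A) (ComplexShape.up ℤ)) α) (DTen.qis A) where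
  isRightKanExtension := by
    refine ⟨⟨Limits.IsTerminal.ofUniqueHom (fun E => CostructuredArrow.homMk
      (LF.leftDerivedLift α (HomotopyCategory.quasiIso (ModuleCat.{u} A) (ComplexShape.up ℤ)) E.left
        (Quotient.natTransLift _ (E.hom : (L₀ (A := A)) ⋙ E.left ⟶ Φ φ)))
      (NatTrans.ext (funext fun X => ?_))) ?_⟩⟩
    · exact LF.leftDerived_fac_app α (HomotopyCategory.quasiIso (ModuleCat.{u} A) (ComplexShape.up ℤ))
        E.left (Quotient.natTransLift _ (E.hom : (L₀ (A := A)) ⋙ E.left ⟶ Φ φ))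
        ((HomotopyCategory.quotient (ModuleCat.{u} A) (ComplexShape.up ℤ)).obj X)
    · intro E m
      let m' : E.left ⟶ LF := m.left
      refine CostructuredArrow.hom_ext _ _ ?_
      haveI : LF.IsRightKanExtension α := hLF.isRightKanExtension
      refine LF.hom_ext_of_isRightKanExtension α m' _ (NatTrans.ext (funext fun X => ?_))
      obtain ⟨K⟩ := X
      refine (congrArg (fun t : NatTrans _ _ => t.app K) (CostructuredArrow.w m)).trans ?_
      exact (LF.leftDerived_fac_app α
        (HomotopyCategory.quasiIso (ModuleCat.{u} A) (ComplexShape.up ℤ))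
        E.left (Quotient.natTransLift _ (E.hom : (L₀ (A := A)) ⋙ E.left ⟶ Φ φ))
        ((HomotopyCategory.quotient (ModuleCat.{u} A) (ComplexShape.up ℤ)).obj K)).symm

variable [DRing.HasLBaseChange φ]

/-- The counit of derived base change on complexes. -/
noncomputable def counit : L₀ ⋙ DRing.LBaseChange φ ⟶ Φ φ :=
  Functor.whiskerLeft (HomotopyCategory.quotient (ModuleCat.{u} A) (ComplexShape.up ℤ))
    ((DRing.baseChangeKh φ).totalLeftDerivedCounit DerivedCategory.Qh
      (HomotopyCategory.quasiIso (ModuleCat.{u} A) (ComplexShape.up ℤ)))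

lemma isIso_counit_of_kFlat (X : DRing.Cx A) (hX : DRing.IsKFlat A X) :
    IsIso ((counit φ).app X) := by
  haveI : (DRing.LBaseChange φ).IsLeftDerivedFunctor (counit φ) (DTen.qis A) :=
    isLeftDerived_quotient φ _ _
  exact (KFlat.res A).isIso_counit L₀ (res_inverts φ) (DRing.LBaseChange φ) (counit φ) X hX

lemma isIso_counit_of_kProjective (P : DRing.Cx A) [P.IsKProjective] :
    IsIso ((counit φ).app P) := by
  obtain ⟨R, q, hR, hq⟩ := KFlat.exists_kFlat_resolution A P
  haveI hqi : IsIso ((L₀ (A := A)).map q) :=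
    Localization.inverts L₀ (DTen.qis A) q ((mem_quasiIso_iff _).2 hq)
  haveI := isIso_counit_of_kFlat φ R hR
  obtain ⟨g, hg⟩ := (CochainComplex.IsKProjective.Qh_map_bijective P
    ((HomotopyCategory.quotient _ _).obj R)).surjective (inv ((L₀ (A := A)).map q))
  obtain ⟨s, rfl⟩ := (HomotopyCategory.quotient _ _).map_surjective g
  have hs : (HomotopyCategory.quotient _ (ComplexShape.up ℤ)).map (s ≫ q) =
      (HomotopyCategory.quotient _ (ComplexShape.up ℤ)).map (𝟙 P) := by
    refine (CochainComplex.IsKProjective.Qh_map_bijective P _).injective ?_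
    change (L₀ (A := A)).map (s ≫ q) = (L₀ (A := A)).map (𝟙 P)
    rw [Functor.map_comp, show (L₀ (A := A)).map s = inv ((L₀ (A := A)).map q) from hg,
      IsIso.inv_hom_id, CategoryTheory.Functor.map_id]
  have hΦ : (Φ φ).map s ≫ (Φ φ).map q = 𝟙 _ := by
    rw [← Functor.map_comp]
    exact ((DRing.baseChangeKh φ).congr_map hs).trans
      (CategoryTheory.Functor.map_id (Φ φ) P)
  haveI : IsIso ((L₀ (A := A)).map s) := by
    rw [show (L₀ (A := A)).map s = inv ((L₀ (A := A)).map q) from hg]; infer_instance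
  have nq : (L₀ ⋙ DRing.LBaseChange φ).map q ≫ (counit φ).app P =
      (counit φ).app R ≫ (Φ φ).map q := (counit φ).naturality q
  have ns : (L₀ ⋙ DRing.LBaseChange φ).map s ≫ (counit φ).app R =
      (counit φ).app P ≫ (Φ φ).map s := (counit φ).naturality s
  haveI : IsIso ((L₀ ⋙ DRing.LBaseChange φ).map q) :=
    (inferInstance : IsIso ((DRing.LBaseChange φ).map ((L₀ (A := A)).map q)))
  haveI : IsIso ((L₀ ⋙ DRing.LBaseChange φ).map s) :=
    (inferInstance : IsIso ((DRing.LBaseChange φ).map ((L₀ (A := A)).map s)))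
  haveI : IsSplitEpi ((Φ φ).map q) := ⟨⟨⟨(Φ φ).map s, hΦ⟩⟩⟩
  haveI : Epi ((counit φ).app P) := epi_of_epi_fac nq
  haveI : IsSplitMono ((counit φ).app P) := ⟨⟨⟨(Φ φ).map s ≫
    inv ((L₀ ⋙ DRing.LBaseChange φ).map s ≫ (counit φ).app R),
    by rw [← Category.assoc, ← ns]; exact IsIso.hom_inv_id _⟩⟩⟩
  exact isIso_of_epi_of_isSplitMono _

/-- Derived base change of a K-projective complex is the termwise base change. -/
noncomputable def valueIso (P : DRing.Cx A) [P.IsKProjective] :
    (DRing.LBaseChange φ).obj (DRing.toD P) ≅ DRing.toD ((ext φ).obj P) :=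
  haveI := isIso_counit_of_kProjective φ P
  (DRing.LBaseChange φ).mapIso ((DerivedCategory.quotientCompQhIso (ModuleCat.{u} A)).app P).symm ≪≫
    asIso ((counit φ).app P) ≪≫ (ΦIso φ).app P

end Groth.Agent.LBC
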